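import Cfsg.Agent.Lib.M24Syl.Model

/-!
In `V = U₅(2)/Z`: maximal subgroups have centre of order at most 8 and there is one abelian
subgroup of order 64, elementary abelian.
-/

set_option autoImplicit false
set_option maxRecDepth 8000
set_option maxHeartbeats 1000000

namespace Cfsg.Agent.M24Syl

namespace V

theorem noAb_check : (all7.all fun x => inA x || noAb x) = true := by decide +kernel

theorem cm_core (x y : V) : cm (core x) (core y) = cm x y := by
  obtain ⟨a, b, c, d, p, q, r, u, v⟩ := x
  obtain ⟨a', b', c', d', p', q', r', u', v'⟩ := y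
  have key : ∀ s t A B A' B' : Bool,
      (s ^^ t ^^ A ^^ B) = (t ^^ s ^^ A' ^^ B') ↔ (A ^^ B) = (A' ^^ B') := by decide
  simp only [cm, core, mul_def, mul', V.mk.injEq, decide_eq_decide, key]

theorem A_comm (x y : V) (hx : inA x = true) (hy : inA y = true) : x * y = y * x ∧ x * x = 1 ∧ inA (x * y) = true := by
  obtain ⟨a, b, c, d, p, q, r, u, v⟩ := x
  obtain ⟨a', b', c', d', p', q', r', u', v'⟩ := y
  simp only [inA, Bool.and_eq_true, Bool.not_eq_eq_eq_not, Bool.not_true] at hx hy
  obtain ⟨⟨rfl, rfl⟩, rfl⟩ := hx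
  obtain ⟨⟨rfl, rfl⟩, rfl⟩ := hy
  simp [mul_def, mul', one_def, one', inA, Bool.xor_comm]

theorem A_spec {x y : V} (hx : inA x = true) (hy : inA y = true) :
    x * x = 1 ∧ x * y = y * x ∧ inA (x * y) = true := by
  obtain ⟨h1, h2, h3⟩ := A_comm x y hx hy
  exact ⟨h2, h1, h3⟩

/-- The distinguished subgroup. -/
def subA : Subgroup V where
  carrier := {x | inA x = true}
  one_mem' := rfl
  mul_mem' := fun hx hy => (A_spec hx hy).2.2
  inv_mem' := fun {x} hx => by
    show inA x⁻¹ = true
    rwa [inv_eq_of_mul_eq_one_right (A_spec hx hx).1]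

theorem card_subA : Nat.card subA = 64 := by
  rw [Nat.card_congr (α := subA) (β := Bool × Bool × Bool × Bool × Bool × Bool)
    { toFun := fun x => (x.1.a, x.1.d, x.1.p, x.1.r, x.1.u, x.1.v)
      invFun := fun t => ⟨⟨t.1, false, false, t.2.1, t.2.2.1, false, t.2.2.2.1, t.2.2.2.2.1,
        t.2.2.2.2.2⟩, rfl⟩
      left_inv := fun x => by
        obtain ⟨⟨a, b, c, d, p, q, r, u, v⟩, hx⟩ := x
        have hx' : inA ⟨a, b, c, d, p, q, r, u, v⟩ = true := hx
        simp only [inA, Bool.and_eq_true, Bool.not_eq_eq_eq_not, Bool.not_true] at hx'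
        obtain ⟨⟨rfl, rfl⟩, rfl⟩ := hx'
        rfl
      right_inv := fun _ => rfl }]
  simp [Nat.card_prod]

theorem card_le_filter (A : Subgroup V) (P : V → Bool) (h : ∀ a ∈ A, P a = true) :
    Nat.card A ≤ (all'.filter P).length := by
  classical
  refine le_trans ?_ (List.toFinset_card_le _)
  rw [Nat.card_eq_fintype_card, Fintype.card_subtype]
  refine Finset.card_le_card fun x hx => ?_
  simp only [Finset.mem_filter, Finset.mem_univ, true_and] at hx
  simp [mem_all x, h x hx]

theorem card_le_four_mul (A : Subgroup V) (P : V → Bool) (h : ∀ a ∈ A, P (core a) = true) :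
    Nat.card A ≤ 4 * (all7.filter P).length := by
  classical
  let f : A → {y : V // y ∈ (all7.filter P).toFinset} × Bool × Bool := fun a =>
    (⟨core (a : V), by simp [mem_all7 (a : V), h a a.2]⟩, (a : V).u, (a : V).v)
  have hf : Function.Injective f := fun a b e => by
    simp only [f, Prod.mk.injEq, Subtype.mk.injEq, core, V.mk.injEq] at e
    obtain ⟨⟨h1, h2, h3, h4, h5, h6, h7, -⟩, h8, h9⟩ := e
    refine Subtype.ext ?_
    generalize (a : V) = x, (b : V) = y at h1 h2 h3 h4 h5 h6 h7 h8 h9 ⊢
    cases x; cases y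
    simp only [V.mk.injEq]
    exact ⟨h1, h2, h3, h4, h5, h6, h7, h8, h9⟩
  refine le_trans (Nat.card_le_card_of_injective f hf) ?_
  rw [Nat.card_prod, Nat.card_prod, Nat.card_eq_finsetCard]
  simp only [Nat.card_eq_fintype_card, Fintype.card_bool]
  have := List.toFinset_card_le (all7.filter P)
  omega

theorem eq_subA (A : Subgroup V) (hc : ∀ a ∈ A, ∀ b ∈ A, a * b = b * a) (h64 : Nat.card A = 64) :
    A = subA := by
  classical
  refine Subgroup.eq_of_le_of_card_ge (fun x hx => ?_) (by rw [h64, card_subA])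
  by_contra hxA
  have hno : noAb (core x) = true := by
    have := List.all_eq_true.1 noAb_check _ (mem_all7 x)
    rw [Bool.or_eq_true] at this
    exact this.resolve_left hxA
  have hC : ∀ a ∈ A, cm (core x) (core a) = true := fun a ha => by rw [cm_core]; simp [cm, hc x hx a ha]
  have hle := card_le_four_mul A (cm (core x)) hC
  have hin : ∀ t, (∀ a ∈ A, cm t (core a) = true) → 16 ≤ cnt (all7.filter (cm (core x))) t := by
    intro t ht
    have h2 := card_le_four_mul A (fun y => cm (core x) y && cm t y) fun a ha => by simp [hC a ha, ht a ha]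
    rw [h64] at h2
    simp only [cnt, List.filter_filter]
    rw [List.filter_congr (q := fun y => cm (core x) y && cm t y) fun y _ => Bool.and_comm _ _]
    omega
  have hin' : ∀ t ∈ A, 16 ≤ cnt (all7.filter (cm (core x))) (core t) := fun t ht =>
    hin _ fun a ha => by rw [cm_core]; simp [cm, hc t ht a ha]
  rw [h64] at hle
  simp only [noAb, Bool.or_eq_true, Bool.and_eq_true, decide_eq_true_eq, List.any_eq_true,
    beq_iff_eq] at hno
  -- elements commuting with `x`
  have hmem : ∀ y, cm (core x) y = true → y = core y → y ∈ Subgroup.centralizer {x} := fun y hy e => by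
    rw [Subgroup.mem_centralizer_singleton_iff]
    rw [e, cm_core] at hy
    simpa [cm, eq_comm] using hy
  let C : Subgroup V := Subgroup.centralizer {x}
  have hAC : A ≤ C := fun a ha => by
    rw [Subgroup.mem_centralizer_singleton_iff]
    exact (hc x hx a ha).symm
  have hCle : Nat.card C ≤ 4 * (all7.filter (cm (core x))).length := by
    refine card_le_four_mul C _ fun y hy => ?_
    rw [Subgroup.mem_centralizer_singleton_iff] at hy
    rw [cm_core]; simp [cm, hy.symm]
  rcases hno with (hlt | ⟨heq, a, ha, hxa, hlt⟩) | ⟨hle128, t, ht, ⟨⟨⟨hxa, hxb⟩, hla⟩, hlb⟩, hlab⟩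
  · omega
  · have hca : core a = a := by
      simp only [List.mem_cons, List.not_mem_nil, or_false] at ha
      rcases ha with rfl | rfl | rfl | rfl | rfl | rfl | rfl | rfl <;> decide +kernel
    have haA : a ∈ A := by
      have : A = C := Subgroup.eq_of_le_of_card_ge hAC (by rw [h64]; omega)
      rw [this]
      exact hmem a hxa hca.symm
    have := hin' a haA
    rw [hca] at this
    omega
  · have hc1 : core t.1 = t.1 ∧ core t.2 = t.2 ∧ core (t.1 * t.2) = t.1 * t.2 := by
      simp only [List.mem_cons, List.not_mem_nil, or_false] at ht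
      rcases ht with rfl | rfl | rfl | rfl <;> decide +kernel
    have hidx : (A.subgroupOf C).index ≤ 2 := by
      have h1 := (A.subgroupOf C).card_mul_index
      rw [Nat.card_congr (Subgroup.subgroupOfEquivOfLe hAC).toEquiv, h64] at h1
      omega
    have hne : (A.subgroupOf C).index ≠ 0 := Subgroup.index_ne_zero_of_finite
    have hor : t.1 ∈ A ∨ t.2 ∈ A ∨ t.1 * t.2 ∈ A := by
      by_contra hcon
      push Not at hcon
      have h1 : (⟨t.1, hmem _ hxa hc1.1.symm⟩ : C) ∉ A.subgroupOf C := hcon.1
      have h2 : (⟨t.2, hmem _ hxb hc1.2.1.symm⟩ : C) ∉ A.subgroupOf C := hcon.2.1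
      obtain hi | hi : (A.subgroupOf C).index = 1 ∨ (A.subgroupOf C).index = 2 := by omega
      · exact h1 (Subgroup.index_eq_one.1 hi ▸ Subgroup.mem_top _)
      · exact hcon.2.2 ((Subgroup.mul_mem_iff_of_index_two hi).2 (iff_of_false h1 h2))
    rcases hor with h | h | h
    · have := hin' _ h; rw [hc1.1] at this; omega
    · have := hin' _ h; rw [hc1.2.1] at this; omega
    · have := hin' _ h; rw [hc1.2.2] at this; omega

theorem center_card_le (M : Subgroup V) (hM : M.index = 2) : Nat.card (Subgroup.center M) ≤ 8 := by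
  classical
  have hmul : ∀ {a b : V}, a * b ∈ M ↔ (a ∈ M ↔ b ∈ M) := fun {a b} => Subgroup.mul_mem_iff_of_index_two hM
  obtain ⟨m, hm, hiff⟩ : ∃ m < 16, ∀ x : V, x ∈ M ↔ par m x = false := by
    refine ⟨(decide (dec 1 ∉ M)).toNat + 2 * (decide (dec 2 ∉ M)).toNat + 4 * (decide (dec 4 ∉ M)).toNat +
      8 * (decide (dec 8 ∉ M)).toNat, ?_, ?_⟩
    · cases decide (dec 1 ∉ M) <;> cases decide (dec 2 ∉ M) <;> cases decide (dec 4 ∉ M) <;>
        cases decide (dec 8 ∉ M) <;> decide
    set m := (decide (dec 1 ∉ M)).toNat + 2 * (decide (dec 2 ∉ M)).toNat +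
      4 * (decide (dec 4 ∉ M)).toNat + 8 * (decide (dec 8 ∉ M)).toNat with hmdef
    intro x
    have hbase : ∀ g ∈ gens, g ∈ M ↔ par m g = false := by
      intro g hg
      simp only [gens, List.mem_cons, List.not_mem_nil, or_false] at hg
      rw [hmdef]
      by_cases h1 : dec 1 ∈ M <;> by_cases h2 : dec 2 ∈ M <;> by_cases h3 : dec 4 ∈ M <;>
        by_cases h4 : dec 8 ∈ M <;>
        rcases hg with rfl | rfl | rfl | rfl <;>
        simp only [h1, h2, h3, h4, not_true, not_false_iff, decide_true, decide_false, true_iff, false_iff] <;>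
        decide +kernel
    induction mem_closure x using Subgroup.closure_induction with
    | mem g hg => exact hbase g hg
    | one =>
      refine iff_of_true (one_mem M) ?_
      simp [par, one_def, one']
    | mul a b _ _ ha hb =>
      rw [par_mul]
      refine hmul.trans ((iff_congr ha hb).trans ?_)
      cases par m a <;> cases par m b <;> simp
    | inv a _ ha =>
      refine inv_mem_iff.trans (ha.trans ?_)
      simp [par, inv_def, inv']
  have hm0 : m ≠ 0 := fun e => by
    have htop : M = ⊤ := eq_top_iff.2 fun x _ => (hiff x).2 (by simp [par, e])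
    rw [htop, Subgroup.index_top] at hM
    omega
  have hchk := List.all_eq_true.1 max_check m (List.mem_range.2 hm)
  simp only [Bool.or_eq_true, beq_iff_eq, hm0, false_or, decide_eq_true_eq] at hchk
  refine le_trans ?_ hchk
  rw [Nat.card_congr ((Subgroup.center M).equivMapOfInjective _ M.subtype_injective).toEquiv]
  refine card_le_filter _ _ ?_
  rintro _ ⟨z, hz, rfl⟩
  simp only [Bool.and_eq_true, Bool.not_eq_eq_eq_not, Bool.not_true, List.all_eq_true, List.mem_filter,
    decide_eq_true_eq, cm]
  exact ⟨(hiff _).1 z.2, fun g hg => (congrArg Subtype.val (Subgroup.mem_center_iff.1 hz ⟨g, (hiff g).2 hg.2⟩)).symm⟩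

end V

end Cfsg.Agent.M24Syl
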