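import Cfsg.Agent.Lib.M24Syl.Model
import Cfsg.Agent.Lib.Mathieu.SylowTwo

/-!
A Sylow 2-subgroup of `M₂₄` is isomorphic to `U₅(2)`; hence its central quotient is `V`.
-/

set_option autoImplicit false
set_option maxRecDepth 20000
set_option maxHeartbeats 1000000

namespace Cfsg.Agent.M24Syl

open Cfsg Cfsg.Agent.Mathieu

/-- `U₅(2)`. -/
structure W where
  /-- the part outside the corner -/
  s : V
  /-- the corner entry -/
  w : Bool
deriving DecidableEq

namespace W

/-- The cocycle. -/
def kap (x y : V) : Bool := (x.a && y.v) ^^ (x.p && y.r) ^^ (x.u && y.d)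

instance instMul : Mul W := ⟨fun x y => ⟨x.s * y.s, x.w ^^ y.w ^^ kap x.s y.s⟩⟩
instance instOne : One W := ⟨⟨1, false⟩⟩
instance instInv : Inv W := ⟨fun x => ⟨x.s⁻¹, x.w ^^ kap x.s⁻¹ x.s⟩⟩

theorem mul_def (x y : W) : x * y = ⟨x.s * y.s, x.w ^^ y.w ^^ kap x.s y.s⟩ := rfl
theorem one_def : (1 : W) = ⟨1, false⟩ := rfl
theorem inv_def (x : W) : x⁻¹ = ⟨x.s⁻¹, x.w ^^ kap x.s⁻¹ x.s⟩ := rfl

/-- Bits in `ZMod 2`. -/
def toZ (b : Bool) : ZMod 2 := if b then 1 else 0

theorem toZ_injective : Function.Injective toZ := by decide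
theorem toZ_xor : ∀ a b : Bool, toZ (a ^^ b) = toZ a + toZ b := by decide
theorem toZ_and : ∀ a b : Bool, toZ (a && b) = toZ a * toZ b := by decide

instance instGroup : Group W where
  mul_assoc x y z := by
    simp only [mul_def, W.mk.injEq]
    refine ⟨mul_assoc _ _ _, ?_⟩
    refine toZ_injective ?_
    simp only [kap, V.mul_def, V.mul', toZ_xor, toZ_and]
    ring
  one_mul x := by
    cases x
    simp [mul_def, one_def, kap, V.one_def, V.one']
  mul_one x := by
    cases x
    simp [mul_def, one_def, kap, V.one_def, V.one']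
  inv_mul_cancel x := by
    simp only [mul_def, inv_def, one_def, W.mk.injEq, inv_mul_cancel, true_and]
    cases kap x.s⁻¹ x.s <;> cases x.w <;> rfl

/-- All elements. -/
def allW : List W := (V.all'.map fun v => ⟨v, false⟩) ++ (V.all'.map fun v => ⟨v, true⟩)

theorem mem_allW (x : W) : x ∈ allW := by
  obtain ⟨s, w⟩ := x
  cases w
  · exact List.mem_append_left _ (List.mem_map.2 ⟨s, V.mem_all s, rfl⟩)
  · exact List.mem_append_right _ (List.mem_map.2 ⟨s, V.mem_all s, rfl⟩)

theorem card_eq : Nat.card W = 1024 := by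
  rw [Nat.card_congr (β := V × Bool) ⟨fun x => (x.s, x.w), fun t => ⟨t.1, t.2⟩, fun _ => rfl, fun _ => rfl⟩,
    Nat.card_prod, V.card_eq]
  simp

/-- The simple generators. -/
def gens : List W := V.gens.map fun v => ⟨v, false⟩

theorem mem_closure (x : W) : x ∈ Subgroup.closure {g | g ∈ gens} := by
  set H := Subgroup.closure {g | g ∈ gens}
  have hg : ∀ v ∈ V.gens, (⟨v, false⟩ : W) ∈ H := fun v hv =>
    Subgroup.subset_closure (List.mem_map.2 ⟨v, hv, rfl⟩)
  have hlift : ∀ v : V, ∃ y ∈ H, y.s = v := by
    intro v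
    induction V.mem_closure v using Subgroup.closure_induction with
    | mem g hgm => exact ⟨_, hg g hgm, rfl⟩
    | one => exact ⟨1, one_mem _, rfl⟩
    | mul a b _ _ ha hb =>
      obtain ⟨ya, hya, ea⟩ := ha
      obtain ⟨yb, hyb, eb⟩ := hb
      exact ⟨ya * yb, mul_mem hya hyb, by show ya.s * yb.s = a * b; rw [ea, eb]⟩
    | inv a _ ha =>
      obtain ⟨ya, hya, ea⟩ := ha
      exact ⟨ya⁻¹, inv_mem hya, by show ya.s⁻¹ = a⁻¹; rw [ea]⟩
  have hz : (⟨1, true⟩ : W) ∈ H := by
    obtain ⟨ya, hya, ea⟩ := hlift (V.dec 1)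
    obtain ⟨yv, hyv, ev⟩ := hlift (V.dec 256)
    have hk : ∀ s t : Bool, (⟨1, true⟩ : W) =
        ((⟨V.dec 1, s⟩ : W) * ⟨V.dec 256, t⟩)⁻¹ * ((⟨V.dec 256, t⟩ : W) * ⟨V.dec 1, s⟩) := by
      decide +kernel
    rw [hk ya.w yv.w, ← ea, ← ev]
    exact mul_mem (inv_mem (mul_mem hya hyv)) (mul_mem hyv hya)
  obtain ⟨y, hy, hys⟩ := hlift x.s
  obtain ⟨s, w⟩ := x
  obtain ⟨s', w'⟩ := y
  simp only at hys
  subst hys
  by_cases e : w = w'
  · exact e ▸ hy
  · have : (⟨s', w⟩ : W) = ⟨s', w'⟩ * ⟨1, true⟩ := by
      simp only [mul_def, mul_one, W.mk.injEq, true_and]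
      have hk : kap s' 1 = false := by simp [kap, V.one_def, V.one']
      rw [hk]
      cases w <;> cases w' <;> simp_all
    rw [this]
    exact mul_mem hy hz

/-- The images of the root elements, in the order used in `phiN`. -/
def rootN : Fin 10 → ℕ := ![
  0x16070a06120e1009110d0c0b140f081513030405010217,
  0x1316021117121410030a0d0c0b0e0508010009040f150706,
  0x10d060f070803041405160b0c090a1213150e1011001702,
  0x50b14150904020806010c0d160713100a0f171200110e03,
  0xd0714060811040f0e160b0c0a09121513051003010217,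
  0x130c0214170411080f0e0b160d0a09100100051203150706,
  0x1040614070c110d0f0e1012080a090b1315051603001702,
  0x60b021100041408050a0c0d160e031001170f1209150713,
  0x170d0211131014120f0a160b0c0e09040106050803150700,
  0x1041309150b030d0a051008120f140c06070e1611001702]

/-- The selecting bits. -/
def bits (x : W) : Fin 10 → Bool :=
  ![x.w, x.s.v, x.s.r, x.s.d, x.s.u, x.s.q, x.s.c, x.s.p, x.s.b, x.s.a]

/-- The packed permutation of an element. -/
def phiN (x : W) : ℕ :=
  (List.finRange 10).foldl (fun l i => if bits x i then packMul 24 l (rootN i) else l) (packId 24)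

theorem roots_ok : (List.finRange 10).all (fun i => mem24 (rootN i)) = true := by decide +kernel

/-- The permutation of a root element. -/
noncomputable def root (i : Fin 10) : Equiv.Perm GolayPt :=
  (exists_rep (e := ptEnc) (perm_of_mem24 _ (List.all_eq_true.1 roots_ok i (List.mem_finRange i)))).choose

theorem rep_root (i : Fin 10) : Rep ptEnc (root i) (rootN i) :=
  (exists_rep (e := ptEnc) (perm_of_mem24 _ (List.all_eq_true.1 roots_ok i (List.mem_finRange i)))).choose_spec

theorem root_mem (i : Fin 10) : root i ∈ M24 :=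
  mem24_sound _ _ (rep_root i) (List.all_eq_true.1 roots_ok i (List.mem_finRange i))

theorem exists_perm (x : W) : ∃ σ ∈ M24, Rep ptEnc σ (phiN x) := by
  have h : ∀ (L : List (Fin 10)) (σ : Equiv.Perm GolayPt) (l : ℕ), σ ∈ M24 → Rep ptEnc σ l →
      ∃ τ ∈ M24, Rep ptEnc τ (L.foldl (fun l i => if bits x i then packMul 24 l (rootN i) else l) l) := by
    intro L
    induction L with
    | nil => exact fun σ l hσ hl => ⟨σ, hσ, hl⟩
    | cons i L ih =>
      intro σ l hσ hl
      rw [List.foldl_cons]
      by_cases hb : bits x i = true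
      · rw [if_pos hb]; exact ih _ _ (mul_mem hσ (root_mem i)) (rep_packMul hl (rep_root i))
      · rw [if_neg hb]; exact ih _ _ hσ hl
  exact h _ 1 _ (one_mem _) (rep_one (by decide +kernel))

theorem hom_check : (allW.all fun x => gens.all fun g =>
    sameP 24 (packMul 24 (phiN x) (phiN g)) (phiN (x * g))) = true := by decide +kernel

theorem inj_check : (allW.all fun x => decide (x = 1) || !(isId 24 (phiN x))) = true := by
  decide +kernel

theorem one_check : isId 24 (phiN 1) = true := by decide +kernel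

/-- The element as a member of `M₂₄`. -/
noncomputable def phi (x : W) : M24 := ⟨(exists_perm x).choose, (exists_perm x).choose_spec.1⟩

theorem rep_phi (x : W) : Rep ptEnc (phi x : Equiv.Perm GolayPt) (phiN x) := (exists_perm x).choose_spec.2

theorem phi_one : phi 1 = 1 := Subtype.ext (Rep.eq_one (rep_phi 1) one_check)

theorem phi_mul_gen (x : W) {g : W} (hg : g ∈ gens) : phi (x * g) = phi x * phi g := by
  refine Subtype.ext ((rep_phi (x * g)).unique ?_)
  exact (rep_packMul (rep_phi x) (rep_phi g)).congr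
    (List.all_eq_true.1 (List.all_eq_true.1 hom_check x (mem_allW x)) g hg)

theorem phi_mul (x y : W) : phi (x * y) = phi x * phi y := by
  induction mem_closure y using Subgroup.closure_induction generalizing x with
  | mem g hg => exact phi_mul_gen x hg
  | one => rw [mul_one, phi_one, mul_one]
  | mul a b _ _ ha hb => rw [← mul_assoc, hb, ha, hb a, mul_assoc]
  | inv a _ ha =>
    rw [eq_mul_inv_of_mul_eq (show phi (x * a⁻¹) * phi a = phi x by rw [← ha, inv_mul_cancel_right]),
      eq_inv_of_mul_eq_one_left (show phi a⁻¹ * phi a = 1 by rw [← ha, inv_mul_cancel, phi_one])]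

/-- The embedding. -/
noncomputable def hom : W →* M24 := MonoidHom.mk' phi phi_mul

theorem hom_injective : Function.Injective hom := by
  refine (injective_iff_map_eq_one hom).2 fun x hx => ?_
  have h := List.all_eq_true.1 inj_check x (mem_allW x)
  simp only [Bool.or_eq_true, decide_eq_true_eq, Bool.not_eq_eq_eq_not, Bool.not_true] at h
  refine h.resolve_right fun hf => ?_
  have hr := rep_phi x
  have he : (phi x : Equiv.Perm GolayPt) = 1 := congrArg Subtype.val hx
  rw [he] at hr
  rw [isId_of_rep_one hr] at hf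
  exact Bool.noConfusion hf

/-- The projection to `V`. -/
def proj : W →* V := MonoidHom.mk' (fun x => x.s) fun _ _ => rfl

theorem center_check : (allW.all fun x => decide (x.s = 1) || !(gens.all fun g => decide (x * g = g * x))) = true := by
  decide +kernel

theorem ker_proj : proj.ker = Subgroup.center W := by
  ext x
  rw [MonoidHom.mem_ker, Subgroup.mem_center_iff]
  constructor
  · intro hx g
    obtain ⟨s, w⟩ := x
    simp only [proj, MonoidHom.mk'_apply] at hx
    subst hx
    simp [mul_def, kap, V.one_def, V.one', V.mul_def, V.mul', Bool.xor_comm]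
  · intro hc
    have h := List.all_eq_true.1 center_check x (mem_allW x)
    simp only [Bool.or_eq_true, decide_eq_true_eq, Bool.not_eq_eq_eq_not, Bool.not_true] at h
    refine h.resolve_right fun hf => ?_
    have : (gens.all fun g => decide (x * g = g * x)) = true :=
      List.all_eq_true.2 fun g _ => by simp [hc g]
    rw [this] at hf
    exact Bool.noConfusion hf

theorem nonempty_quotient_equiv (P : Sylow 2 M24) :
    Nonempty ((P : Subgroup M24) ⧸ Subgroup.center ↥(P : Subgroup M24) ≃* V) := by
  haveI : Fact (Nat.Prime 2) := ⟨Nat.prime_two⟩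
  have hr : Nat.card hom.range = 2 ^ (Nat.card M24).factorization 2 := by
    rw [← Sylow.card_eq_multiplicity P, (M24_sylow_two P).1]
    exact (Nat.card_congr (MonoidHom.ofInjective hom_injective).toEquiv).symm.trans card_eq
  let P₀ : Sylow 2 M24 := Sylow.ofCard hom.range hr
  let e : (P : Subgroup M24) ≃* W := (P.equiv P₀).trans (MonoidHom.ofInjective hom_injective).symm
  have hmap : (Subgroup.center ↥(P : Subgroup M24)).map e.toMonoidHom = Subgroup.center W := by
    ext y
    simp only [Subgroup.mem_map, Subgroup.mem_center_iff]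
    constructor
    · rintro ⟨x, hx, rfl⟩ g
      obtain ⟨g, rfl⟩ := e.surjective g
      show e g * e x = e x * e g
      rw [← map_mul, ← map_mul, hx g]
    · intro hy
      refine ⟨e.symm y, fun g => e.injective ?_, e.apply_symm_apply y⟩
      rw [map_mul, map_mul, e.apply_symm_apply, hy]
  exact ⟨((QuotientGroup.congr _ _ e hmap).trans (QuotientGroup.quotientMulEquivOfEq ker_proj.symm)).trans
    (QuotientGroup.quotientKerEquivOfSurjective proj fun v => ⟨⟨v, false⟩, rfl⟩)⟩

end W

end Cfsg.Agent.M24Syl
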