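import Mathlib

/-!
The unitriangular group `U₅(2)` as pairs (a quotient part of nine bits, a central bit), and its
central quotient `V`.
-/

set_option autoImplicit false

namespace Cfsg.Agent.M24Syl

/-- `U₅(2)` modulo its centre: entries 12, 23, 34, 45, 13, 24, 35, 14, 25. -/
structure V where
  /-- entry 12 -/
  a : Bool
  /-- entry 23 -/
  b : Bool
  /-- entry 34 -/
  c : Bool
  /-- entry 45 -/
  d : Bool
  /-- entry 13 -/
  p : Bool
  /-- entry 24 -/
  q : Bool
  /-- entry 35 -/
  r : Bool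
  /-- entry 14 -/
  u : Bool
  /-- entry 25 -/
  v : Bool
deriving DecidableEq

namespace V

/-- The product. -/
def mul' (x y : V) : V :=
  ⟨x.a ^^ y.a, x.b ^^ y.b, x.c ^^ y.c, x.d ^^ y.d,
    x.p ^^ y.p ^^ (x.a && y.b), x.q ^^ y.q ^^ (x.b && y.c), x.r ^^ y.r ^^ (x.c && y.d),
    x.u ^^ y.u ^^ (x.a && y.q) ^^ (x.p && y.c), x.v ^^ y.v ^^ (x.b && y.r) ^^ (x.q && y.d)⟩

/-- The inverse. -/
def inv' (x : V) : V :=
  ⟨x.a, x.b, x.c, x.d, x.p ^^ (x.a && x.b), x.q ^^ (x.b && x.c), x.r ^^ (x.c && x.d),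
    x.u ^^ (x.a && (x.q ^^ (x.b && x.c))) ^^ (x.p && x.c),
    x.v ^^ (x.b && (x.r ^^ (x.c && x.d))) ^^ (x.q && x.d)⟩

/-- The identity. -/
def one' : V := ⟨false, false, false, false, false, false, false, false, false⟩

instance instMul : Mul V := ⟨mul'⟩
instance instInv : Inv V := ⟨inv'⟩
instance instOne : One V := ⟨one'⟩

theorem mul_def (x y : V) : x * y = mul' x y := rfl
theorem inv_def (x : V) : x⁻¹ = inv' x := rfl
theorem one_def : (1 : V) = one' := rfl

theorem mul_assoc' (x y z : V) : x * y * z = x * (y * z) := by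
  simp only [mul_def, mul', V.mk.injEq]
  refine ⟨?_, ?_, ?_, ?_, ?_, ?_, ?_, ?_, ?_⟩ <;>
    simp only [Bool.and_xor_distrib_left, Bool.and_xor_distrib_right, Bool.and_assoc, Bool.xor_assoc,
      Bool.xor_comm, Bool.xor_left_comm]

theorem one_mul' (x : V) : 1 * x = x := by
  simp [mul_def, one_def, mul', one']

theorem mul_one' (x : V) : x * 1 = x := by
  simp [mul_def, one_def, mul', one']

theorem mul_inv' (x : V) : x * x⁻¹ = 1 := by
  obtain ⟨a, b, c, d, p, q, r, u, v⟩ := x
  revert a b c d p q r u v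
  decide +kernel

theorem inv_mul' (x : V) : x⁻¹ * x = 1 := by
  obtain ⟨a, b, c, d, p, q, r, u, v⟩ := x
  revert a b c d p q r u v
  decide +kernel

instance instGroup : Group V where
  mul_assoc := mul_assoc'
  one_mul := one_mul'
  mul_one := mul_one'
  inv_mul_cancel := inv_mul'

/-- Decode nine bits. -/
def dec (n : ℕ) : V :=
  ⟨n.testBit 0, n.testBit 1, n.testBit 2, n.testBit 3, n.testBit 4, n.testBit 5, n.testBit 6,
    n.testBit 7, n.testBit 8⟩

/-- Encode nine bits. -/
def enc (x : V) : ℕ :=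
  x.a.toNat + 2 * x.b.toNat + 4 * x.c.toNat + 8 * x.d.toNat + 16 * x.p.toNat + 32 * x.q.toNat +
    64 * x.r.toNat + 128 * x.u.toNat + 256 * x.v.toNat

theorem enc_spec : ∀ a b c d p q r u v : Bool,
    enc ⟨a, b, c, d, p, q, r, u, v⟩ < 512 ∧ dec (enc ⟨a, b, c, d, p, q, r, u, v⟩) = ⟨a, b, c, d, p, q, r, u, v⟩ := by
  decide +kernel

/-- All elements. -/
def all' : List V := (List.range 512).map dec

theorem mem_all (x : V) : x ∈ all' := by
  obtain ⟨a, b, c, d, p, q, r, u, v⟩ := x
  exact List.mem_map.mpr ⟨_, List.mem_range.mpr (enc_spec a b c d p q r u v).1, (enc_spec a b c d p q r u v).2⟩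

instance instFintype : Fintype V := ⟨all'.toFinset, fun x => List.mem_toFinset.mpr (mem_all x)⟩

theorem card_eq : Nat.card V = 512 := by
  rw [Nat.card_congr (β := Bool × Bool × Bool × Bool × Bool × Bool × Bool × Bool × Bool)
    ⟨fun x => (x.a, x.b, x.c, x.d, x.p, x.q, x.r, x.u, x.v),
      fun t => ⟨t.1, t.2.1, t.2.2.1, t.2.2.2.1, t.2.2.2.2.1, t.2.2.2.2.2.1, t.2.2.2.2.2.2.1,
        t.2.2.2.2.2.2.2.1, t.2.2.2.2.2.2.2.2⟩, fun _ => rfl, fun _ => rfl⟩]
  simp [Nat.card_prod]

/-- The four simple generators. -/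
def gens : List V := [dec 1, dec 2, dec 4, dec 8]

theorem mem_closure (x : V) : x ∈ Subgroup.closure {g | g ∈ gens} := by
  have h : ∀ g ∈ gens, g ∈ Subgroup.closure {g | g ∈ gens} := fun g hg => Subgroup.subset_closure hg
  set H := Subgroup.closure {g | g ∈ gens}
  have e0 : dec 1 ∈ H := h _ (by simp [gens])
  have e1 : dec 2 ∈ H := h _ (by simp [gens])
  have e2 : dec 4 ∈ H := h _ (by simp [gens])
  have e3 : dec 8 ∈ H := h _ (by simp [gens])
  have e4 : dec 16 ∈ H := by
    rw [show dec 16 = (dec 1 * dec 2)⁻¹ * (dec 2 * dec 1) by decide +kernel]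
    exact mul_mem (inv_mem (mul_mem e0 e1)) (mul_mem e1 e0)
  have e5 : dec 32 ∈ H := by
    rw [show dec 32 = (dec 2 * dec 4)⁻¹ * (dec 4 * dec 2) by decide +kernel]
    exact mul_mem (inv_mem (mul_mem e1 e2)) (mul_mem e2 e1)
  have e6 : dec 64 ∈ H := by
    rw [show dec 64 = (dec 4 * dec 8)⁻¹ * (dec 8 * dec 4) by decide +kernel]
    exact mul_mem (inv_mem (mul_mem e2 e3)) (mul_mem e3 e2)
  have e7 : dec 128 ∈ H := by
    rw [show dec 128 = (dec 16 * dec 4)⁻¹ * (dec 4 * dec 16) by decide +kernel]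
    exact mul_mem (inv_mem (mul_mem e4 e2)) (mul_mem e2 e4)
  have e8 : dec 256 ∈ H := by
    rw [show dec 256 = (dec 32 * dec 8)⁻¹ * (dec 8 * dec 32) by decide +kernel]
    exact mul_mem (inv_mem (mul_mem e5 e3)) (mul_mem e3 e5)
  have key : ∀ (bit : Bool) (g : V), g ∈ H → (if bit then g else 1) ∈ H := fun bit g hg => by
    cases bit
    · exact one_mem H
    · exact hg
  have heq : ∀ a b c d p q r u v : Bool, (⟨a, b, c, d, p, q, r, u, v⟩ : V) =
      (if v then dec 256 else 1) * (if u then dec 128 else 1) * (if r then dec 64 else 1) *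
      (if d then dec 8 else 1) * (if q then dec 32 else 1) * (if c then dec 4 else 1) *
      (if p then dec 16 else 1) * (if b then dec 2 else 1) * (if a then dec 1 else 1) := by
    decide +kernel
  obtain ⟨a, b, c, d, p, q, r, u, v⟩ := x
  rw [heq]
  exact mul_mem (mul_mem (mul_mem (mul_mem (mul_mem (mul_mem (mul_mem (mul_mem (key v _ e8) (key u _ e7))
    (key r _ e6)) (key d _ e3)) (key q _ e5)) (key c _ e2)) (key p _ e4)) (key b _ e1)) (key a _ e0)

/-- The parity attached to a mask on the superdiagonal. -/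
def par (m : ℕ) (x : V) : Bool :=
  (m.testBit 0 && x.a) ^^ (m.testBit 1 && x.b) ^^ (m.testBit 2 && x.c) ^^ (m.testBit 3 && x.d)

theorem par_mul (m : ℕ) (x y : V) : par m (x * y) = (par m x ^^ par m y) := by
  simp only [par, mul_def, mul', Bool.and_xor_distrib_left, Bool.xor_assoc, Bool.xor_comm,
    Bool.xor_left_comm]

/-- Whether two elements commute. -/
def cm (x y : V) : Bool := decide (x * y = y * x)

/-- Candidates inside maximal subgroups. -/
def cands : List V := (List.range 16).map dec ++ [dec 16, dec 32, dec 64, dec 128, dec 256]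

theorem max_check : ((List.range 16).all fun m => m == 0 ||
    decide ((all'.filter fun x => !(par m x) && (cands.filter fun g => !(par m g)).all (cm x)).length ≤ 8)) = true := by
  decide +kernel

/-- The elements of the distinguished abelian subgroup. -/
def inA (x : V) : Bool := !x.b && !x.c && !x.q

/-- Forget the central entries. -/
def core (x : V) : V := ⟨x.a, x.b, x.c, x.d, x.p, x.q, x.r, false, false⟩

/-- Representatives modulo the central entries. -/
def all7 : List V := (List.range 128).map dec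

theorem core_spec : ∀ a b c d p q r u v : Bool,
    enc (core ⟨a, b, c, d, p, q, r, u, v⟩) < 128 := by decide +kernel

theorem mem_all7 (x : V) : core x ∈ all7 := by
  obtain ⟨a, b, c, d, p, q, r, u, v⟩ := x
  exact List.mem_map.mpr ⟨_, List.mem_range.mpr (core_spec a b c d p q r u v),
    (enc_spec a b c d p q r false false).2⟩

/-- Number of elements of `L` commuting with `a`. -/
def cnt (L : List V) (a : V) : ℕ := (L.filter (cm a)).length

/-- No abelian subgroup of order 64 contains `x` (on representatives). -/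
def noAb (x : V) : Bool :=
  let C := all7.filter (cm x)
  decide (C.length < 16) ||
    (decide (C.length == 16) && [dec 1, dec 2, dec 4, dec 8, dec 5, dec 10, dec 3, dec 6].any
      fun a => cm x a && decide (cnt C a < 16)) ||
    (decide (C.length ≤ 32) && [(dec 2, dec 4), (dec 2, dec 5), (dec 4, dec 10), (dec 5, dec 10)].any
      fun t => cm x t.1 && cm x t.2 && decide (cnt C t.1 < 16) && decide (cnt C t.2 < 16) &&
        decide (cnt C (t.1 * t.2) < 16))

end V

end Cfsg.Agent.M24Syl
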